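import Mathlib

/-!
# Slopes of polynomials with respect to a valuation
-/

universe u

open Polynomial

namespace Groth.Agent.H6Filt

variable {A K : Type u} [CommRing A] [Field K] [Algebra A K] (V : AddValuation K (WithTop ℤ)) (p : ℤ)

/-- `m` is the least value of `V aₙ - n p`, first reached at `n₀`. -/
structure Ext (f : A[X]) (m : ℤ) (n₀ : ℕ) : Prop where
  le : ∀ n : ℕ, ((m + n * p : ℤ) : WithTop ℤ) ≤ V (algebraMap A K (f.coeff n))
  lt : ∀ n : ℕ, n < n₀ → ((m + n * p : ℤ) : WithTop ℤ) < V (algebraMap A K (f.coeff n))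
  eq : V (algebraMap A K (f.coeff n₀)) = ((m + n₀ * p : ℤ) : WithTop ℤ)

/-- The values `V aₙ - n p` are at least `m`. -/
def Ge (f : A[X]) (m : ℤ) : Prop := ∀ n : ℕ, ((m + n * p : ℤ) : WithTop ℤ) ≤ V (algebraMap A K (f.coeff n))

theorem Ge.mul {f g : A[X]} {m m' : ℤ} (hf : Ge V p f m) (hg : Ge V p g m') : Ge V p (f * g) (m + m') := by
  intro n
  rw [coeff_mul, map_sum]
  refine V.map_le_sum fun x hx => ?_
  rw [map_mul, V.map_mul]
  refine le_of_eq_of_le ?_ (add_le_add (hf x.1) (hg x.2))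
  rw [← WithTop.coe_add]
  refine WithTop.coe_eq_coe.2 ?_
  have : (x.1 : ℤ) + x.2 = n := by exact_mod_cast Finset.HasAntidiagonal.mem_antidiagonal.1 hx
  rw [← this]
  ring

theorem Ext.mul {f g : A[X]} {m m' : ℤ} {a b : ℕ} (hf : Ext V p f m a) (hg : Ext V p g m' b) :
    Ext V p (f * g) (m + m') (a + b) := by
  have key : ∀ (n : ℕ) (x : ℕ × ℕ), x ∈ Finset.HasAntidiagonal.antidiagonal n → (x.1 < a ∨ x.2 < b) →
      ((m + m' + n * p : ℤ) : WithTop ℤ) < V (algebraMap A K (f.coeff x.1 * g.coeff x.2)) := by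
    intro n x hx hlt
    rw [map_mul, V.map_mul]
    have hn : ((m + m' + n * p : ℤ) : WithTop ℤ) = ((m + x.1 * p : ℤ) : WithTop ℤ) + ((m' + x.2 * p : ℤ) : WithTop ℤ) := by
      rw [← WithTop.coe_add]
      refine WithTop.coe_eq_coe.2 ?_
      have : (x.1 : ℤ) + x.2 = n := by exact_mod_cast Finset.HasAntidiagonal.mem_antidiagonal.1 hx
      rw [← this]
      ring
    rw [hn]
    rcases hlt with h | h
    · exact WithTop.add_lt_add_of_lt_of_le WithTop.coe_ne_top (hf.lt _ h) (hg.le _)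
    · exact WithTop.add_lt_add_of_le_of_lt WithTop.coe_ne_top (hf.le _) (hg.lt _ h)
  refine ⟨Ge.mul V p hf.le hg.le, fun n hn => ?_, ?_⟩
  · rw [coeff_mul, map_sum]
    refine V.map_lt_sum' (WithTop.coe_lt_top _) fun x hx => key n x hx ?_
    have := Finset.HasAntidiagonal.mem_antidiagonal.1 hx
    lia
  · rw [coeff_mul, map_sum, ← Finset.add_sum_erase _ _ (Finset.HasAntidiagonal.mem_antidiagonal.2 rfl : (a, b) ∈ _)]
    have hval : V (algebraMap A K (f.coeff a * g.coeff b)) = ((m + m' + (a + b : ℕ) * p : ℤ) : WithTop ℤ) := by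
      rw [map_mul, V.map_mul, hf.eq, hg.eq, ← WithTop.coe_add]
      refine WithTop.coe_eq_coe.2 ?_
      push_cast
      ring
    rw [V.map_add_eq_of_lt_left, hval]
    rw [hval]
    refine V.map_lt_sum' (WithTop.coe_lt_top _) fun x hx => key _ x (Finset.mem_of_mem_erase hx) ?_
    have h := Finset.HasAntidiagonal.mem_antidiagonal.1 (Finset.mem_of_mem_erase hx)
    have hne := Finset.ne_of_mem_erase hx
    by_contra hc
    exact hne (Prod.ext (by lia) (by lia))

theorem Ext.pow {f : A[X]} {m : ℤ} {a : ℕ} (hf : Ext V p f m a) (h0 : ∀ x : A, 0 ≤ V (algebraMap A K x)) :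
    ∀ d : ℕ, Ext V p (f ^ (d + 1)) ((d + 1 : ℕ) * m) ((d + 1) * a)
  | 0 => by simpa using hf
  | d + 1 => by
    have h := (Ext.pow hf h0 d).mul V p hf
    rw [pow_succ, show ((d + 1 + 1 : ℕ) : ℤ) * m = (d + 1 : ℕ) * m + m by push_cast; ring,
      show (d + 1 + 1) * a = (d + 1) * a + a by ring]
    exact h

theorem Ge.pow {f : A[X]} {m : ℤ} (hf : Ge V p f m) : ∀ d : ℕ, Ge V p (f ^ d) (d * m)
  | 0 => fun n => by
    rcases Nat.eq_zero_or_pos n with rfl | hn
    · simp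
    · rw [pow_zero, coeff_one, if_neg hn.ne', map_zero, V.map_zero]
      exact le_top
  | d + 1 => by
    rw [pow_succ, show ((d + 1 : ℕ) : ℤ) * m = d * m + m by push_cast; ring]
    exact (Ge.pow hf d).mul V p hf

/-- A polynomial integral over the polynomials of slope `≥ p` has slope `≥ p`. -/
theorem ge_zero_of_isIntegral [Nontrivial A] (h0 : ∀ x : A, 0 ≤ V (algebraMap A K x)) {S : Type*} [CommRing S] (φ : S →+* A[X])
    (hS : ∀ c, Ge V p (φ c) 0) {f : A[X]} (hf : φ.IsIntegralElem f) : Ge V p f 0 := by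
  classical
  by_contra hcon
  obtain ⟨n₁, hn₁⟩ := not_forall.1 hcon
  rw [not_le] at hn₁
  let S₀ := (Finset.range (f.natDegree + 1)).filter fun n => V (algebraMap A K (f.coeff n)) ≠ ⊤
  have hmem : ∀ n, V (algebraMap A K (f.coeff n)) ≠ ⊤ → n ∈ S₀ := fun n hn => by
    refine Finset.mem_filter.2 ⟨Finset.mem_range.2 (Nat.lt_succ_of_le (le_natDegree_of_ne_zero fun h => hn ?_)), hn⟩
    rw [h, map_zero, V.map_zero]
  have hn₁' : V (algebraMap A K (f.coeff n₁)) ≠ ⊤ := ne_top_of_lt hn₁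
  obtain ⟨n₂, hn₂, hmin⟩ := Finset.exists_min_image S₀
    (fun n => (V (algebraMap A K (f.coeff n))).untopD 0 - n * p) ⟨n₁, hmem n₁ hn₁'⟩
  obtain ⟨z, hz⟩ := WithTop.ne_top_iff_exists.1 (Finset.mem_filter.1 hn₂).2
  let m : ℤ := z - n₂ * p
  have hge : Ge V p f m := fun n => by
    rcases eq_or_ne (V (algebraMap A K (f.coeff n))) ⊤ with h | h
    · rw [h]; exact le_top
    · have := hmin n (hmem n h)
      obtain ⟨y, hy⟩ := WithTop.ne_top_iff_exists.1 h
      rw [← hz, ← hy, WithTop.untopD_coe, WithTop.untopD_coe] at this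
      rw [← hy]
      exact WithTop.coe_le_coe.2 (by change z - n₂ * p + n * p ≤ y; lia)
  have hm : m < 0 := by
    have := (hge n₁).trans_lt hn₁
    rw [WithTop.coe_lt_coe] at this
    lia
  have hex : ∃ n : ℕ, V (algebraMap A K (f.coeff n)) = ((m + n * p : ℤ) : WithTop ℤ) :=
    ⟨n₂, by rw [← hz]; exact WithTop.coe_eq_coe.2 (by simp [m])⟩
  have hext : Ext V p f m (Nat.find hex) :=
    ⟨hge, fun n hn => lt_of_le_of_ne (hge n) fun h => Nat.find_min hex hn h.symm, Nat.find_spec hex⟩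
  obtain ⟨P, hP, hP0⟩ := hf
  have hd : P.natDegree ≠ 0 := by
    intro h
    rw [hP.natDegree_eq_zero.1 h] at hP0
    simp at hP0
  obtain ⟨d, hd⟩ := Nat.exists_eq_succ_of_ne_zero hd
  have hsum : P.eval₂ φ f = ∑ k ∈ Finset.range (d + 1), φ (P.coeff k) * f ^ k + f ^ (d + 1) := by
    rw [eval₂_eq_sum_range, hd, Finset.sum_range_succ, show P.coeff (d + 1) = 1 from (congrArg P.coeff hd).symm.trans hP.coeff_natDegree, map_one, one_mul]
  rw [hP0] at hsum
  have h1 := (hext.pow V p h0 d).eq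
  have h2 : ((((d + 1 : ℕ) : ℤ) * m + (((d + 1) * Nat.find hex : ℕ) : ℤ) * p : ℤ) : WithTop ℤ) <
      V (algebraMap A K ((∑ k ∈ Finset.range (d + 1), φ (P.coeff k) * f ^ k).coeff ((d + 1) * Nat.find hex))) := by
    rw [finsetSum_coeff, map_sum]
    refine V.map_lt_sum' (WithTop.coe_lt_top _) fun k hk => ?_
    refine lt_of_lt_of_le (WithTop.coe_lt_coe.2 ?_) (((hS (P.coeff k)).mul V p (hge.pow V p k)) _)
    have hk' : (k : ℤ) + 1 ≤ ((d + 1 : ℕ) : ℤ) := by exact_mod_cast Finset.mem_range.1 hk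
    nlinarith
  have h3 := congrArg (fun q : A[X] => algebraMap A K (q.coeff ((d + 1) * Nat.find hex))) hsum.symm
  simp only [coeff_add, map_add, coeff_zero, map_zero] at h3
  rw [eq_neg_of_add_eq_zero_left h3, V.map_neg, h1] at h2
  exact lt_irrefl _ h2

end Groth.Agent.H6Filt
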